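import Groth.Agent.FanLib.Cones
import Mathlib.CategoryTheory.Limits.FunctorCategory.Basic
import Mathlib.CategoryTheory.Limits.Types.Limits
import Mathlib.Topology.Maps.Basic

/-! Formal fans: equality in the projective realization via common subcones, pullback fans. -/

set_option autoImplicit false

universe u

namespace Groth.Agent.FanLib

open CategoryTheory Opposite Instab Instab.Fan

variable {F G F' : Fan.{u}} {k n m : ICone}

theorem realMap_eq (φ : k ⟶ n) (v : Fin k.dim → ℝ) : φ.realMap v = rmap φ.toLin v := rfl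

theorem realMap_id (v : Fin n.dim → ℝ) : ICone.Hom.realMap (𝟙 n) v = v := rmap_id v

theorem realMap_comp (φ : k ⟶ n) (ψ : n ⟶ m) (v : Fin k.dim → ℝ) :
    (φ ≫ ψ).realMap v = ψ.realMap (φ.realMap v) := rmap_comp ψ.toLin φ.toLin v

theorem realMap_smul (φ : k ⟶ n) (c : ℝ) (v : Fin k.dim → ℝ) :
    φ.realMap (c • v) = c • φ.realMap v := (rmap φ.toLin).map_smul c v

theorem realMap_injective (φ : k ⟶ n) : Function.Injective φ.realMap := rmap_injective φ.injective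

/-- A cone morphism as a map of punctured orthants. -/
noncomputable def push (φ : k ⟶ n) (v : Orth k) : Orth n :=
  ⟨φ.realMap v.1, rmap_nonneg φ.nonneg v.2.1,
    fun h => v.2.2 (realMap_injective φ (h.trans (rmap φ.toLin).map_zero.symm))⟩

@[simp] theorem push_val (φ : k ⟶ n) (v : Orth k) : (push φ v).1 = φ.realMap v.1 := rfl

theorem push_injective (φ : k ⟶ n) : Function.Injective (push φ) := fun _ _ h =>
  Subtype.ext (realMap_injective φ (congrArg Subtype.val h))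

/-- Positive rescaling in a punctured orthant. -/
noncomputable def scale (c : ℝ) (hc : 0 < c) (v : Orth n) : Orth n :=
  ⟨c • v.1, fun i => mul_nonneg hc.le (v.2.1 i), smul_ne_zero hc.ne' v.2.2⟩

@[simp] theorem scale_val (c : ℝ) (hc : 0 < c) (v : Orth n) : (scale c hc v).1 = c • v.1 := rfl

theorem push_scale (φ : k ⟶ n) (c : ℝ) (hc : 0 < c) (v : Orth k) :
    push φ (scale c hc v) = scale c hc (push φ v) := Subtype.ext (realMap_smul φ c v.1)

theorem push_push (φ : k ⟶ n) (ψ : n ⟶ m) (v : Orth k) : push ψ (push φ v) = push (φ ≫ ψ) v :=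
  Subtype.ext (realMap_comp φ ψ v.1).symm

theorem map_map (φ : k ⟶ n) (ψ : n ⟶ m) (ξ : F.obj (op m)) :
    F.map (φ ≫ ψ).op ξ = F.map φ.op (F.map ψ.op ξ) := by
  rw [op_comp, Functor.map_comp_apply]

theorem map_id' (ξ : F.obj (op n)) : F.map (𝟙 n).op ξ = ξ := by rw [op_id, Functor.map_id_apply]

theorem exists_rep (x : P F) : ∃ (n : ICone) (ξ : F.obj (op n)) (v : Orth n), P.mk ξ v = x := by
  obtain ⟨⟨⟨n, ξ⟩, v⟩, rfl⟩ := Quot.exists_rep x
  exact ⟨n, ξ, v, rfl⟩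

theorem mk_map (φ : k ⟶ n) (ξ : F.obj (op n)) (v : Orth k) :
    P.mk (F.map φ.op ξ) v = P.mk ξ (push φ v) :=
  Quot.sound (Rel.glue φ ξ v (push φ v) 1 one_pos (one_smul ℝ _).symm)

theorem mk_eq_of_smul (ξ : F.obj (op n)) {v w : Orth n} {c : ℝ} (hc : 0 < c) (h : w.1 = c • v.1) :
    P.mk ξ v = P.mk ξ w := by
  have h1 : P.mk (F.map (𝟙 n).op ξ) v = P.mk ξ w :=
    Quot.sound (Rel.glue (𝟙 n) ξ v w c hc (by rw [realMap_id]; exact h))
  rwa [map_id'] at h1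

@[simp] theorem mk_scale (ξ : F.obj (op n)) (c : ℝ) (hc : 0 < c) (v : Orth n) :
    P.mk ξ (scale c hc v) = P.mk ξ v := (mk_eq_of_smul ξ hc rfl).symm

@[simp] theorem map_mk (f : F ⟶ G) (ξ : F.obj (op n)) (v : Orth n) :
    P.map f (P.mk ξ v) = P.mk (f.app (op n) ξ) v := rfl

theorem app_map (f : F ⟶ G) (φ : k ⟶ n) (ξ : F.obj (op n)) :
    f.app (op k) (F.map φ.op ξ) = G.map φ.op (f.app (op n) ξ) := NatTrans.naturality_apply f φ.op ξ

/-- The two points lie in the rational simplex of a common sub-cone. -/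
def Common (p q : Pt F) : Prop :=
  ∃ (k : ICone) (φ₁ : k ⟶ p.1.1) (φ₂ : k ⟶ q.1.1) (y : Orth k) (c₁ c₂ : ℝ),
    F.map φ₁.op p.1.2 = F.map φ₂.op q.1.2 ∧ 0 < c₁ ∧ 0 < c₂ ∧
      p.2.1 = c₁ • φ₁.realMap y.1 ∧ q.2.1 = c₂ • φ₂.realMap y.1

theorem exists_cone_refine {p q : ICone} (φ : p ⟶ n) (ψ : q ⟶ n) (y : Orth p) (z : Orth q)
    (h : φ.realMap y.1 = ψ.realMap z.1) :
    ∃ (l : ICone) (α : l ⟶ p) (β : l ⟶ q) (u : Orth l),
      α ≫ φ = β ≫ ψ ∧ α.realMap u.1 = y.1 ∧ β.realMap u.1 = z.1 := by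
  obtain ⟨l, hl, α, β, u, hα, hβ, hα0, hβ0, hc, hu, h1, h2⟩ :=
    exists_refine φ.toLin ψ.toLin φ.injective ψ.injective y.1 z.1 y.2.1 z.2.1 y.2.2 h
  exact ⟨⟨⟨l, hl⟩⟩, ⟨α, hα, hα0⟩, ⟨β, hβ, hβ0⟩,
    ⟨u, fun i => (hu i).le, fun h => (hu ⟨0, hl⟩).ne' (congrFun h ⟨0, hl⟩)⟩,
    ICone.Hom.ext hc, h1, h2⟩

theorem Common.refl (p : Pt F) : Common p p :=
  ⟨p.1.1, 𝟙 _, 𝟙 _, p.2, 1, 1, rfl, one_pos, one_pos, by simp [realMap_id], by simp [realMap_id]⟩

theorem Common.symm {p q : Pt F} (h : Common p q) : Common q p := by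
  obtain ⟨k, φ₁, φ₂, y, c₁, c₂, h, h₁, h₂, e₁, e₂⟩ := h
  exact ⟨k, φ₂, φ₁, y, c₂, c₁, h.symm, h₂, h₁, e₂, e₁⟩

theorem Common.trans {p q r : Pt F} (h : Common p q) (h' : Common q r) : Common p r := by
  obtain ⟨k, φ₁, φ₂, y, c₁, c₂, h, h₁, h₂, e₁, e₂⟩ := h
  obtain ⟨m, ψ₂, ψ₃, z, d₂, d₃, h', g₂, g₃, f₂, f₃⟩ := h'
  obtain ⟨l, α, β, u, hc, ha, hb⟩ := exists_cone_refine φ₂ ψ₂ (scale c₂ h₂ y) (scale d₂ g₂ z) (by
    simp only [scale_val, realMap_smul]; rw [← e₂, ← f₂])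
  refine ⟨l, α ≫ φ₁, β ≫ ψ₃, u, c₁ / c₂, d₃ / d₂, ?_, div_pos h₁ h₂, div_pos g₃ g₂, ?_, ?_⟩
  · rw [map_map, h, ← map_map, hc, map_map, h', ← map_map]
  · rw [realMap_comp, ha, scale_val, realMap_smul, smul_smul, div_mul_cancel₀ _ h₂.ne', ← e₁]
  · rw [realMap_comp, hb, scale_val, realMap_smul, smul_smul, div_mul_cancel₀ _ g₂.ne', ← f₃]

theorem mk_eq_iff (σ₁ : F.obj (op k)) (σ₂ : F.obj (op n)) (v₁ : Orth k) (v₂ : Orth n) :
    P.mk σ₁ v₁ = P.mk σ₂ v₂ ↔ Common (⟨⟨k, σ₁⟩, v₁⟩ : Pt F) ⟨⟨n, σ₂⟩, v₂⟩ := by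
  constructor
  · intro h
    suffices H : ∀ p q : Pt F, Relation.EqvGen (Rel F) p q → Common p q from H _ _ (Quot.eqvGen_exact h)
    intro p q h1
    induction h1 with
    | rel p q hpq =>
      obtain ⟨φ, ξ, v, w, c, hc, h⟩ := hpq
      exact ⟨_, 𝟙 _, φ, v, 1, c, map_id' _, one_pos, hc, by simp [realMap_id], h⟩
    | refl p => exact Common.refl p
    | symm p q _ ih => exact Common.symm ih
    | trans p q r _ _ ih ih' => exact Common.trans ih ih'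
  · rintro ⟨l, φ₁, φ₂, y, c₁, c₂, h, h₁, h₂, e₁, e₂⟩
    rw [← mk_eq_of_smul σ₁ (v := push φ₁ y) h₁ e₁, ← mk_eq_of_smul σ₂ (v := push φ₂ y) h₂ e₂,
      ← mk_map, ← mk_map]
    exact congrArg (fun s => P.mk s y) h

theorem mk_eq_mk_elim {σ₁ : F.obj (op k)} {σ₂ : F.obj (op n)} {v₁ : Orth k} {v₂ : Orth n}
    (h : P.mk σ₁ v₁ = P.mk σ₂ v₂) :
    ∃ (l : ICone) (φ₁ : l ⟶ k) (φ₂ : l ⟶ n) (y : Orth l) (c₁ c₂ : ℝ) (h₁ : 0 < c₁) (h₂ : 0 < c₂),
      F.map φ₁.op σ₁ = F.map φ₂.op σ₂ ∧ v₁ = scale c₁ h₁ (push φ₁ y) ∧ v₂ = scale c₂ h₂ (push φ₂ y) := by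
  obtain ⟨l, φ₁, φ₂, y, c₁, c₂, h, h₁, h₂, e₁, e₂⟩ := (mk_eq_iff σ₁ σ₂ v₁ v₂).1 h
  exact ⟨l, φ₁, φ₂, y, c₁, c₂, h₁, h₂, h, Subtype.ext e₁, Subtype.ext e₂⟩

theorem exists_pullback_elem (f : F ⟶ G) (g : F' ⟶ G) (a : F.obj (op n)) (b : F'.obj (op n))
    (h : f.app (op n) a = g.app (op n) b) :
    ∃ e : (Limits.pullback f g).obj (op n),
      (Limits.pullback.fst f g).app (op n) e = a ∧ (Limits.pullback.snd f g).app (op n) e = b := by
  have hw : uliftYonedaEquiv.{u}.symm a ≫ f = uliftYonedaEquiv.{u}.symm b ≫ g :=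
    uliftYonedaEquiv.{u}.injective (by simp [uliftYonedaEquiv_comp, h])
  refine ⟨uliftYonedaEquiv.{u} (Limits.pullback.lift _ _ hw), ?_, ?_⟩
  · rw [← uliftYonedaEquiv_comp, Limits.pullback.lift_fst, Equiv.apply_symm_apply]
  · rw [← uliftYonedaEquiv_comp, Limits.pullback.lift_snd, Equiv.apply_symm_apply]

theorem pullback_condition_app (f : F ⟶ G) (g : F' ⟶ G) (e : (Limits.pullback f g).obj (op n)) :
    f.app (op n) ((Limits.pullback.fst f g).app (op n) e) =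
      g.app (op n) ((Limits.pullback.snd f g).app (op n) e) :=
  ConcreteCategory.congr_hom (NatTrans.congr_app (Limits.pullback.condition (f := f) (g := g)) (op n)) e

theorem coneMap_app (σ : F.obj (op n)) (a : (uliftYoneda.{u}.obj n).obj (op k)) :
    (coneMap σ).app (op k) a = F.map a.down.op σ := rfl

theorem exists_p_pullback_lift (f : F ⟶ G) (g : F' ⟶ G) (x : P F) (x' : P F')
    (h : P.map f x = P.map g x') :
    ∃ y : P (Limits.pullback f g),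
      P.map (Limits.pullback.fst f g) y = x ∧ P.map (Limits.pullback.snd f g) y = x' := by
  obtain ⟨k, σ, v, rfl⟩ := exists_rep x
  obtain ⟨m, σ', v', rfl⟩ := exists_rep x'
  rw [map_mk, map_mk] at h
  obtain ⟨l, φ₁, φ₂, y, c₁, c₂, h₁, h₂, he, rfl, rfl⟩ := mk_eq_mk_elim h
  rw [← app_map, ← app_map] at he
  obtain ⟨e, ea, eb⟩ := exists_pullback_elem f g _ _ he
  exact ⟨P.mk e y, by rw [map_mk, ea, mk_map, mk_scale], by rw [map_mk, eb, mk_map, mk_scale]⟩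

theorem map_comp_apply (f : F ⟶ G) (g : G ⟶ F') (x : P F) : P.map (f ≫ g) x = P.map g (P.map f x) := by
  obtain ⟨k, σ, v, rfl⟩ := exists_rep x
  rfl

theorem map_injective (f : F ⟶ G) (hf : ∀ n : ICone, Function.Injective (f.app (op n))) :
    Function.Injective (P.map f) := by
  intro x x' h
  obtain ⟨k, σ, v, rfl⟩ := exists_rep x
  obtain ⟨m, σ', v', rfl⟩ := exists_rep x'
  rw [map_mk, map_mk] at h
  obtain ⟨l, φ₁, φ₂, y, c₁, c₂, h₁, h₂, he, rfl, rfl⟩ := mk_eq_mk_elim h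
  rw [← app_map, ← app_map] at he
  rw [mk_scale, mk_scale, ← mk_map, ← mk_map, hf l he]

/-- The identity cone of a representable fan. -/
def univCone (n : ICone) : (uliftYoneda.{u}.obj n).obj (op n) := ULift.up (𝟙 n)

theorem coneMap_univCone (σ : F.obj (op n)) : (coneMap σ).app (op n) (univCone n) = σ := map_id' σ

theorem yoneda_elem (a : (uliftYoneda.{u}.obj n).obj (op k)) :
    (uliftYoneda.{u}.obj n).map a.down.op (univCone n) = a :=
  ULift.ext _ _ (Category.comp_id a.down)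

theorem yoneda_mk (a : (uliftYoneda.{u}.obj n).obj (op k)) (v : Orth k) :
    P.mk a v = P.mk (univCone.{u} n) (push a.down v) := by
  conv_lhs => rw [← yoneda_elem a]
  exact mk_map _ _ _

theorem yoneda_rep (x : P (uliftYoneda.{u}.obj n)) : ∃ v : Orth n, P.mk (univCone.{u} n) v = x := by
  obtain ⟨k, a, v, rfl⟩ := exists_rep x
  exact ⟨push a.down v, (yoneda_mk a v).symm⟩

theorem yoneda_inj {v w : Orth n} (h : P.mk (univCone.{u} n) v = P.mk (univCone.{u} n) w) :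
    ∃ (c : ℝ) (hc : 0 < c), w = scale c hc v := by
  obtain ⟨l, φ₁, φ₂, y, c₁, c₂, h₁, h₂, he, rfl, rfl⟩ := mk_eq_mk_elim h
  have : φ₁ = φ₂ := by
    have := congrArg ULift.down he
    simpa [univCone] using this
  subst this
  exact ⟨c₂ / c₁, div_pos h₂ h₁, Subtype.ext (by simp [smul_smul, div_mul_cancel₀ _ h₁.ne'])⟩

theorem cone_mk (σ : F.obj (op n)) (v : Orth n) :
    P.map (coneMap σ) (P.mk (univCone.{u} n) v) = P.mk σ v := by rw [map_mk, coneMap_univCone]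

end Groth.Agent.FanLib
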