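import Groth.Agent.FanLib.Basic
import Mathlib.Topology.Algebra.Module.FiniteDimension
import Mathlib.Analysis.SpecificLimits.Basic
import Mathlib.Data.Real.Archimedean

/-! Formal fans: topology of the projective realization, bounded maps, density of rational points. -/

set_option autoImplicit false

universe u

namespace Groth.Agent.FanLib

open CategoryTheory Opposite Instab Instab.Fan Topology Filter

variable {F G : Fan.{u}} {k n m : ICone}

theorem continuous_val : Continuous (fun v : Orth n => v.1) :=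
  continuous_subtype_val (p := fun v : Fin n.dim → ℝ => (∀ i, 0 ≤ v i) ∧ v ≠ 0)

theorem isInducing_val : IsInducing (fun v : Orth n => v.1) :=
  IsInducing.subtypeVal (t := {v : Fin n.dim → ℝ | (∀ i, 0 ≤ v i) ∧ v ≠ 0})

theorem continuous_push (φ : k ⟶ n) : Continuous (push φ) :=
  isInducing_val.continuous_iff.2 ((continuous_rmap φ.toLin).comp continuous_val)

theorem continuous_scale (c : ℝ) (hc : 0 < c) : Continuous (scale (n := n) c hc) :=
  isInducing_val.continuous_iff.2 (continuous_val.const_smul c)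

theorem continuous_mk (ξ : F.obj (op n)) : Continuous (P.mk ξ) :=
  continuous_quot_mk.comp (continuous_sigmaMk (i := (⟨n, ξ⟩ : Σ n : ICone, F.obj (op n))))

theorem isClosed_iff (T : Set (P F)) :
    IsClosed T ↔ ∀ (n : ICone) (ξ : F.obj (op n)), IsClosed (P.mk ξ ⁻¹' T) := by
  refine ⟨fun h n ξ => h.preimage (continuous_mk ξ), fun h => ?_⟩
  refine isQuotientMap_quot_mk.isClosed_preimage.1 (isClosed_sigma_iff.2 fun e => ?_)
  obtain ⟨n, ξ⟩ := e
  exact h n ξ

theorem continuous_map (f : F ⟶ G) : Continuous (P.map f) :=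
  continuous_iff_isClosed.2 fun T hT => (isClosed_iff _).2 fun _ ξ => hT.preimage (continuous_mk (f.app _ ξ))

theorem isClosed_push_image (φ : k ⟶ n) {C : Set (Orth k)} (hC : IsClosed C) :
    IsClosed (push φ '' C) := by
  obtain ⟨C₀, hC₀, rfl⟩ := isInducing_val.isClosed_iff.1 hC
  have hinj : Function.Injective (rmap φ.toLin) := rmap_injective φ.injective
  have h2 : IsClosed {y : Fin k.dim → ℝ | ∀ i, 0 ≤ y i} := isClosed_Ici (a := (0 : Fin k.dim → ℝ))
  have h1 := (LinearMap.isClosedEmbedding_of_injective (LinearMap.ker_eq_bot.2 hinj)).isClosedMap _ (hC₀.inter h2)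
  convert h1.preimage (continuous_val (n := n)) using 1
  ext w
  constructor
  · rintro ⟨y, hy, rfl⟩; exact ⟨y.1, ⟨hy, y.2.1⟩, rfl⟩
  · rintro ⟨y, ⟨hy1, hy2⟩, hy3⟩
    exact ⟨⟨y, hy2, fun h => w.2.2 (hy3.symm.trans (by rw [h, map_zero]))⟩, hy1, Subtype.ext hy3⟩

theorem boundedMap_cover {ψ : F ⟶ G} (hψ : IsBoundedMap ψ) (ξ : G.obj (op n)) :
    ∃ s : Finset (Σ k : ICone, F.obj (op k) × (k ⟶ n)),
      (∀ e ∈ s, ψ.app (op e.1) e.2.1 = G.map e.2.2.op ξ) ∧
      ∀ (x : P F) (v : Orth n), P.map ψ x = P.mk ξ v →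
        ∃ e ∈ s, ∃ y : Orth e.1, push e.2.2 y = v ∧ P.mk e.2.1 y = x := by
  classical
  obtain ⟨s, hs⟩ := hψ n ξ
  refine ⟨s.image fun e => ⟨e.1, (Limits.pullback.fst ψ (coneMap ξ)).app (op e.1) e.2,
    ((Limits.pullback.snd ψ (coneMap ξ)).app (op e.1) e.2).down⟩, ?_, fun x v hx => ?_⟩
  · intro e he
    obtain ⟨e, -, rfl⟩ := Finset.mem_image.1 he
    exact pullback_condition_app ψ (coneMap ξ) e.2
  obtain ⟨x', hx₁, hx₂⟩ := exists_p_pullback_lift ψ (coneMap ξ) x (P.mk (univCone n) v) (by rw [hx, cone_mk])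
  obtain ⟨e, he, y, rfl⟩ := hs x'
  rw [map_mk, yoneda_mk] at hx₂
  obtain ⟨c, hc, rfl⟩ := yoneda_inj hx₂
  exact ⟨_, Finset.mem_image_of_mem _ he, scale c hc y, push_scale _ c hc y, (mk_scale _ c hc y).trans hx₁⟩

theorem isClosedMap_map {ψ : F ⟶ G} (hψ : IsBoundedMap ψ) : IsClosedMap (P.map ψ) := by
  intro C hC
  refine (isClosed_iff _).2 fun n ξ => ?_
  obtain ⟨s, hs, hs'⟩ := boundedMap_cover hψ ξ
  have heq : P.mk ξ ⁻¹' (P.map ψ '' C) = ⋃ e ∈ s, push e.2.2 '' (P.mk e.2.1 ⁻¹' C) := by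
    ext v
    simp only [Set.mem_iUnion, Set.mem_preimage, Set.mem_image]
    constructor
    · rintro ⟨x, hx, hxv⟩
      obtain ⟨e, he, y, h1, h2⟩ := hs' x v hxv
      exact ⟨e, he, y, by rwa [h2], h1⟩
    · rintro ⟨e, he, y, hy, rfl⟩
      exact ⟨_, hy, by rw [map_mk, hs e he, mk_map]⟩
  rw [heq]
  exact isClosed_biUnion_finset fun e _ => isClosed_push_image _ (hC.preimage (continuous_mk _))

theorem isBoundedMap_coneMap (hF : F.IsQuasiSeparated) (ξ : F.obj (op n)) : IsBoundedMap (coneMap ξ) :=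
  fun m σ => hF n m ξ σ

theorem pairs_cover (hF : F.IsQuasiSeparated) (ξ : F.obj (op n)) (ξ' : F.obj (op m)) :
    ∃ s : Finset (Σ k : ICone, (k ⟶ n) × (k ⟶ m)),
      (∀ e ∈ s, F.map e.2.1.op ξ = F.map e.2.2.op ξ') ∧
      ∀ (v : Orth n) (w : Orth m), P.mk ξ v = P.mk ξ' w →
        ∃ e ∈ s, ∃ (y : Orth e.1) (c : ℝ) (hc : 0 < c),
          push e.2.1 y = v ∧ scale c hc (push e.2.2 y) = w := by
  classical
  obtain ⟨s, hs, hs'⟩ := boundedMap_cover (isBoundedMap_coneMap hF ξ') ξ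
  refine ⟨s.image fun e => ⟨e.1, e.2.2, e.2.1.down⟩, ?_, fun v w h => ?_⟩
  · intro e he
    obtain ⟨e, he', rfl⟩ := Finset.mem_image.1 he
    exact (hs e he').symm
  obtain ⟨e, he, y, h1, h2⟩ := hs' (P.mk (univCone m) w) v (by rw [cone_mk, h])
  rw [yoneda_mk] at h2
  obtain ⟨c, hc, h3⟩ := yoneda_inj h2
  exact ⟨_, Finset.mem_image_of_mem _ he, y, c, hc, h1, h3.symm⟩

theorem isClosed_mk_univCone_image {S : Set (Orth n)} (hS : IsClosed S)
    (hsat : ∀ v w : Orth n, v ∈ S → ∀ c : ℝ, 0 < c → w.1 = c • v.1 → w ∈ S) :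
    IsClosed (P.mk (univCone.{u} n) '' S) := by
  refine (isClosed_iff _).2 fun k a => ?_
  convert hS.preimage (continuous_push a.down) using 1
  ext y
  show (∃ v ∈ S, P.mk (univCone.{u} n) v = P.mk a y) ↔ push a.down y ∈ S
  rw [yoneda_mk a y]
  constructor
  · rintro ⟨v, hv, h⟩
    obtain ⟨c, hc, h'⟩ := yoneda_inj h
    exact hsat v _ hv c hc (congrArg Subtype.val h')
  · exact fun h => ⟨_, h, rfl⟩

theorem isClosed_image_cell (hF : F.IsQuasiSeparated) (ξ : F.obj (op n)) {S : Set (Orth n)}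
    (hS : IsClosed S) (hsat : ∀ v w : Orth n, v ∈ S → ∀ c : ℝ, 0 < c → w.1 = c • v.1 → w ∈ S) :
    IsClosed (P.mk ξ '' S) := by
  have : P.mk ξ '' S = P.map (coneMap ξ) '' (P.mk (univCone.{u} n) '' S) := by
    rw [Set.image_image]; exact Set.image_congr fun v _ => (cone_mk ξ v).symm
  rw [this]
  exact isClosedMap_map (isBoundedMap_coneMap hF ξ) _ (isClosed_mk_univCone_image hS hsat)

theorem isClosed_cell (hF : F.IsQuasiSeparated) (ξ : F.obj (op n)) : IsClosed (P.cell ξ) := by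
  rw [show P.cell ξ = P.mk ξ '' Set.univ from Set.image_univ.symm]
  exact isClosed_image_cell hF ξ isClosed_univ fun _ _ _ _ _ _ => trivial

theorem isClosed_of_cells {T : Set (P F)}
    (h : ∀ (n : ICone) (ξ : F.obj (op n)), IsClosed (T ∩ P.cell ξ)) : IsClosed T := by
  refine (isClosed_iff _).2 fun n ξ => ?_
  convert (h n ξ).preimage (continuous_mk ξ) using 1
  ext v
  exact ⟨fun hv => ⟨hv, v, rfl⟩, fun hv => hv.1⟩

theorem isClosed_mk_eq (hF : F.IsQuasiSeparated) (σ₀ σ₁ : F.obj (op n)) :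
    IsClosed {v : Orth n | P.mk σ₀ v = P.mk σ₁ v} := by
  obtain ⟨s, hs, hs'⟩ := pairs_cover hF σ₀ σ₁
  have : {v : Orth n | P.mk σ₀ v = P.mk σ₁ v} = ⋃ e ∈ s, push e.2.1 ''
      {y : Orth e.1 | (∑ i, (push e.2.2 y).1 i) • (push e.2.1 y).1 = (∑ i, (push e.2.1 y).1 i) • (push e.2.2 y).1} := by
    ext v
    simp only [Set.mem_iUnion, Set.mem_ofPred_eq, Set.mem_image]
    constructor
    · intro h
      obtain ⟨e, he, y, c, hc, h1, h2⟩ := hs' v v h
      refine ⟨e, he, y, ?_, h1⟩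
      rw [h1, show v.1 = c • (push e.2.2 y).1 from (congrArg Subtype.val h2).symm]
      simp only [Pi.smul_apply, smul_eq_mul, ← Finset.mul_sum, smul_smul, mul_comm]
    · rintro ⟨e, he, y, hy, rfl⟩
      have hpos : ∀ w : Orth n, 0 < ∑ i, w.1 i := fun w => by
        obtain ⟨i, hi⟩ := Function.ne_iff.1 w.2.2
        exact Finset.sum_pos' (fun i _ => w.2.1 i)
          ⟨i, Finset.mem_univ i, lt_of_le_of_ne (w.2.1 i) (Ne.symm hi)⟩
      rw [← mk_map, hs e he, mk_map]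
      refine mk_eq_of_smul σ₁ (c := (∑ i, (push e.2.1 y).1 i) / ∑ i, (push e.2.2 y).1 i)
        (div_pos (hpos _) (hpos _)) ?_
      rw [div_eq_mul_inv, mul_comm, ← smul_smul, ← hy, smul_smul, inv_mul_cancel₀ (hpos _).ne', one_smul]
  rw [this]
  refine isClosed_biUnion_finset fun e _ => isClosed_push_image _ ?_
  have h1 := continuous_val.comp (continuous_push e.2.1)
  have h2 := continuous_val.comp (continuous_push e.2.2)
  exact isClosed_eq ((continuous_finsetSum _ fun i _ => (continuous_apply i).comp h2).smul h1)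
    ((continuous_finsetSum _ fun i _ => (continuous_apply i).comp h1).smul h2)

/-- An integer nonnegative vector as a cone morphism from `[1]`. -/
def intHom (a : Fin n.dim → ℤ) (h0 : ∀ i, 0 ≤ a i) (h1 : a ≠ 0) : one ⟶ n where
  toLin :=
    { toFun := fun v j => v (0 : Fin 1) * a j
      map_add' := fun v w => funext fun j => add_mul (v (0 : Fin 1)) (w (0 : Fin 1)) (a j)
      map_smul' := fun c v => funext fun j => mul_assoc c (v (0 : Fin 1)) (a j) }
  injective := (injective_iff_map_eq_zero _).2 fun v hv => by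
    obtain ⟨i, hi⟩ := Function.ne_iff.1 h1
    have h2 : v (0 : Fin 1) * a i = 0 := congrFun hv i
    funext j
    rw [Subsingleton.elim (α := Fin 1) j 0]
    exact (mul_eq_zero.1 h2).resolve_right hi
  nonneg v hv j := mul_nonneg (hv (0 : Fin 1)) (h0 j)

/-- An integer nonnegative vector as a point of the orthant. -/
def intOrth (a : Fin n.dim → ℤ) (h0 : ∀ i, 0 ≤ a i) (h1 : a ≠ 0) : Orth n :=
  ⟨fun i => (a i : ℝ), fun i => Int.cast_nonneg (h0 i), fun h => h1 (by
    funext i; have := congrFun h i; simpa using this)⟩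

theorem isRational_intOrth (ξ : F.obj (op n)) (a : Fin n.dim → ℤ) (h0 : ∀ i, 0 ≤ a i) (h1 : a ≠ 0) :
    (P.mk ξ (intOrth a h0 h1)).IsRational := by
  refine ⟨F.map (intHom a h0 h1).op ξ, ?_⟩
  rw [mk_map]
  congr 1
  refine Subtype.ext (funext fun j => ?_)
  show (a j : ℝ) = ∑ i, (((intHom a h0 h1).toLin (Pi.single i 1)) j : ℝ) * 1
  show _ = ∑ i : Fin 1, (((Pi.single i 1 : Fin 1 → ℤ) 0 * a j : ℤ) : ℝ) * 1
  simp

/-- A closed cone in an orthant containing all lattice points is everything. -/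
theorem mem_of_intOrth {C : Set (Orth n)} (hC : IsClosed C)
    (hsat : ∀ v, v ∈ C → ∀ c : ℝ, ∀ hc : 0 < c, scale c hc v ∈ C)
    (hint : ∀ a h0 h1, intOrth a h0 h1 ∈ C) (v : Orth n) : v ∈ C := by
  let a : ℕ → Fin n.dim → ℤ := fun m i => ⌈((m : ℝ) + 1) * v.1 i⌉
  have ha : ∀ m i, 0 ≤ a m i := fun m i => Int.ceil_nonneg (mul_nonneg (by positivity) (v.2.1 i))
  have ha1 : ∀ m, a m ≠ 0 := fun m h => by
    obtain ⟨i, hi⟩ := Function.ne_iff.1 v.2.2
    have h2 : (0 : ℝ) < ((m : ℝ) + 1) * v.1 i :=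
      mul_pos (by positivity) (lt_of_le_of_ne (v.2.1 i) (Ne.symm hi))
    exact (Int.ceil_pos.2 h2).ne' (congrFun h i)
  refine hC.mem_of_tendsto (b := atTop) (f := fun (m : ℕ) => scale (((m : ℝ) + 1)⁻¹) (by positivity) (intOrth (a m) (ha m) (ha1 m)))
    ?_ (Eventually.of_forall fun m => hsat _ (hint _ _ _) _ _)
  rw [isInducing_val.tendsto_nhds_iff, tendsto_pi_nhds]
  intro i
  have h1 : Tendsto (fun m : ℕ => ((m : ℝ) + 1)⁻¹) atTop (𝓝 0) := by
    simpa [one_div] using tendsto_one_div_add_atTop_nhds_zero_nat (𝕜 := ℝ)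
  refine tendsto_of_tendsto_of_tendsto_of_le_of_le tendsto_const_nhds
    (by simpa using h1.const_add (v.1 i)) (fun m => ?_) (fun m => ?_)
  · show v.1 i ≤ ((m : ℝ) + 1)⁻¹ * (a m i : ℝ)
    rw [← div_eq_inv_mul, le_div_iff₀ (by positivity), mul_comm]
    exact Int.le_ceil _
  · show ((m : ℝ) + 1)⁻¹ * (a m i : ℝ) ≤ v.1 i + ((m : ℝ) + 1)⁻¹
    have h2 : (a m i : ℝ) ≤ ((m : ℝ) + 1) * v.1 i + 1 := (Int.ceil_lt_add_one _).le
    have h3 := mul_le_mul_of_nonneg_left h2 (show (0 : ℝ) ≤ ((m : ℝ) + 1)⁻¹ by positivity)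
    rw [mul_add, mul_one, ← mul_assoc, inv_mul_cancel₀ (by positivity), one_mul] at h3
    exact h3

theorem forall_of_rational (ξ : F.obj (op n)) {T : Set (P F)} (hT : IsClosed T)
    (h : ∀ a h0 h1, P.mk ξ (intOrth a h0 h1) ∈ T) (v : Orth n) : P.mk ξ v ∈ T :=
  mem_of_intOrth (hT.preimage (continuous_mk ξ))
    (fun w hw c hc => by rw [Set.mem_preimage, mk_scale]; exact hw) h v

end Groth.Agent.FanLib
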