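import Groth.Prelude.Def_W4c6instabfans3Fan
import Mathlib.LinearAlgebra.Basis.VectorSpace
import Mathlib.Topology.Instances.Rat
import Mathlib.Topology.Instances.Real.Lemmas
import Mathlib.Data.Fintype.Sum
import Mathlib.Algebra.BigOperators.Fin
import Mathlib.Tactic.Positivity
import Mathlib.Tactic.Linarith
import Mathlib.Tactic.FieldSimp

/-! Rational simplicial cones: real extensions of integral maps, common refinements. -/

set_option autoImplicit false

namespace Groth.Agent.FanLib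

open scoped BigOperators

/-- Real extension of an integral linear map. -/
noncomputable def rmap {ι κ : Type*} [Fintype ι] [DecidableEq ι] (f : (ι → ℤ) →ₗ[ℤ] (κ → ℤ)) :
    (ι → ℝ) →ₗ[ℝ] (κ → ℝ) where
  toFun v j := ∑ i, (f (Pi.single i 1) j : ℝ) * v i
  map_add' u v := by funext j; simp [mul_add, Finset.sum_add_distrib]
  map_smul' c v := by funext j; simp [Finset.mul_sum, mul_left_comm]

section
variable {ι κ μ : Type*} [Fintype ι] [DecidableEq ι]

theorem rmap_apply (f : (ι → ℤ) →ₗ[ℤ] (κ → ℤ)) (v : ι → ℝ) (j : κ) :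
    rmap f v j = ∑ i, (f (Pi.single i 1) j : ℝ) * v i := rfl

theorem apply_eq_sum (f : (ι → ℤ) →ₗ[ℤ] (κ → ℤ)) (a : ι → ℤ) (j : κ) :
    f a j = ∑ i, f (Pi.single i 1) j * a i := by
  have h : a = ∑ i, a i • (Pi.single i 1 : ι → ℤ) := by
    funext l; simp [Finset.sum_apply, Pi.single_apply]
  conv_lhs => rw [h]
  rw [map_sum, Finset.sum_apply]
  exact Finset.sum_congr rfl fun i _ => by rw [map_smul, Pi.smul_apply, smul_eq_mul, mul_comm]

theorem rmap_intCast (f : (ι → ℤ) →ₗ[ℤ] (κ → ℤ)) (a : ι → ℤ) :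
    rmap f (fun i => (a i : ℝ)) = fun j => (f a j : ℝ) := by
  funext j; rw [rmap_apply, apply_eq_sum f a j]; push_cast; rfl

theorem rmap_id (v : ι → ℝ) : rmap (LinearMap.id : (ι → ℤ) →ₗ[ℤ] (ι → ℤ)) v = v := by
  funext j; simp [rmap_apply, Pi.single_apply]

theorem rmap_comp [Fintype κ] [DecidableEq κ] (g : (κ → ℤ) →ₗ[ℤ] (μ → ℤ))
    (f : (ι → ℤ) →ₗ[ℤ] (κ → ℤ)) (v : ι → ℝ) : rmap (g.comp f) v = rmap g (rmap f v) := by
  funext j
  simp only [rmap_apply, LinearMap.comp_apply, Finset.mul_sum]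
  rw [Finset.sum_comm]
  refine Finset.sum_congr rfl fun i _ => ?_
  rw [apply_eq_sum g (f (Pi.single i 1)) j, Int.cast_sum, Finset.sum_mul]
  refine Finset.sum_congr rfl fun l _ => ?_
  push_cast; ring

theorem continuous_rmap (f : (ι → ℤ) →ₗ[ℤ] (κ → ℤ)) : Continuous (rmap f) :=
  continuous_pi fun _ => continuous_finsetSum _ fun i _ => continuous_const.mul (continuous_apply i)

theorem exists_int_smul (x : ι → ℚ) : ∃ (d : ℕ) (a : ι → ℤ), 0 < d ∧ ∀ i, (a i : ℚ) = d * x i := by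
  refine ⟨∏ i, (x i).den, fun i => (x i).num * ((∏ j ∈ Finset.univ.erase i, (x j).den : ℕ) : ℤ),
    Finset.prod_pos fun i _ => (x i).pos, fun i => ?_⟩
  rw [← Finset.mul_prod_erase Finset.univ (fun j => (x j).den) (Finset.mem_univ i)]
  push_cast
  rw [mul_comm ((x i).den : ℚ) _, mul_assoc, Rat.den_mul_eq_num]
  ring

theorem exists_rat_decomp (f : (ι → ℤ) →ₗ[ℤ] (κ → ℤ)) (w : ι → ℝ) (hw : rmap f w = 0) :
    ∃ (l : ℕ) (r : Fin l → ℝ) (c : Fin l → ι → ℚ), (∀ i, w i = ∑ a, r a * (c a i : ℝ)) ∧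
      (∀ a j, ∑ i, (f (Pi.single i 1) j : ℚ) * c a i = 0) ∧ ∀ a i, w i = 0 → c a i = 0 := by
  classical
  let b := Module.Basis.ofVectorSpace ℚ ℝ
  let S := Finset.univ.biUnion fun i => (b.repr (w i)).support
  let e := S.equivFin
  refine ⟨S.card, fun a => b (e.symm a), fun a i => b.repr (w i) (e.symm a), fun i => ?_, fun a j => ?_,
    fun a i hi => by simp [hi]⟩
  · have h1 : w i = ∑ s ∈ S, (b.repr (w i) s) • b s := by
      conv_lhs => rw [← b.linearCombination_repr (w i), Finsupp.linearCombination_apply]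
      exact Finsupp.sum_of_support_subset _ (fun s hs => Finset.mem_biUnion.2 ⟨i, Finset.mem_univ i, hs⟩) _ (by simp)
    rw [h1, ← Finset.sum_coe_sort S, ← e.symm.sum_comp]
    refine Finset.sum_congr rfl fun a _ => ?_
    rw [Rat.smul_def, mul_comm]
  · have h1 : ∑ i, (f (Pi.single i 1) j : ℚ) • w i = 0 := by
      have := congrFun hw j
      simp only [rmap_apply, Pi.zero_apply] at this
      simpa [Rat.smul_def] using this
    have h2 := congrArg (fun z => b.repr z (e.symm a : _)) h1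
    simpa [map_sum, Finsupp.finsetSum_apply, map_smul] using h2

theorem rmap_injective {f : (ι → ℤ) →ₗ[ℤ] (κ → ℤ)} (hf : Function.Injective f) :
    Function.Injective (rmap f) := by
  refine (injective_iff_map_eq_zero _).2 fun w hw => ?_
  obtain ⟨l, r, c, h1, h2, -⟩ := exists_rat_decomp f w hw
  have hc : ∀ a i, c a i = 0 := by
    intro a i
    obtain ⟨d, z, hd, hz⟩ := exists_int_smul (c a)
    have h3 : f z = f 0 := by
      rw [map_zero]
      funext j
      have : ((f z j : ℤ) : ℚ) = 0 := by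
        rw [apply_eq_sum f z j]; push_cast; simp only [hz]
        calc ∑ i, (f (Pi.single i 1) j : ℚ) * ((d : ℚ) * c a i)
            = (d : ℚ) * ∑ i, (f (Pi.single i 1) j : ℚ) * c a i := by
              rw [Finset.mul_sum]; exact Finset.sum_congr rfl fun i _ => by ring
          _ = 0 := by rw [h2, mul_zero]
      exact_mod_cast this
    have h4 := hz i
    rw [hf h3, Pi.zero_apply, Int.cast_zero, eq_comm, mul_eq_zero] at h4
    exact h4.resolve_left (by exact_mod_cast hd.ne')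
  funext i; simp [h1, hc]

theorem rmap_nonneg {f : (ι → ℤ) →ₗ[ℤ] (κ → ℤ)}
    (hf : ∀ v : ι → ℤ, (∀ i, 0 ≤ v i) → ∀ j, 0 ≤ f v j) {v : ι → ℝ} (hv : ∀ i, 0 ≤ v i) (j : κ) :
    0 ≤ rmap f v j :=
  Finset.sum_nonneg fun i _ => mul_nonneg (by
    exact_mod_cast hf (Pi.single i 1) (fun l => by
      rcases eq_or_ne l i with rfl | h
      · simp
      · simp [h]) j) (hv i)

theorem exists_int_ker (f : (ι → ℤ) →ₗ[ℤ] (κ → ℤ)) (w : ι → ℝ) (hw : rmap f w = 0)
    (h0 : ∀ i, 0 ≤ w i) (hne : w ≠ 0) :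
    ∃ a : ι → ℤ, f a = 0 ∧ (∀ i, 0 ≤ a i) ∧ a ≠ 0 ∧ ∀ i, w i = 0 → a i = 0 := by
  classical
  obtain ⟨l, r, c, h1, h2, h3⟩ := exists_rat_decomp f w hw
  let V : Set (Fin l → ℝ) := ⋂ i ∈ {i | w i ≠ 0}, {t | 0 < ∑ a, t a * (c a i : ℝ)}
  have hV : IsOpen V := (Set.toFinite _).isOpen_biInter fun i _ => isOpen_lt continuous_const (by fun_prop)
  have hr : r ∈ V := Set.mem_iInter₂.2 fun i hi => by
    show 0 < ∑ a, r a * (c a i : ℝ)
    rw [← h1]; exact lt_of_le_of_ne (h0 i) (Ne.symm hi)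
  obtain ⟨t, ht⟩ := (DenseRange.piMap fun _ : Fin l => Rat.denseRange_cast (𝕜 := ℝ)).exists_mem_open hV ⟨r, hr⟩
  let x : ι → ℚ := fun i => ∑ a, t a * c a i
  have hx : ∀ i, w i ≠ 0 → 0 < x i := fun i hi => by
    have h := Set.mem_iInter₂.1 ht i hi
    simp only [Set.mem_ofPred_eq, Pi.map_apply] at h
    exact_mod_cast h
  have hx0 : ∀ i, w i = 0 → x i = 0 := fun i hi => Finset.sum_eq_zero fun a _ => by rw [h3 a i hi, mul_zero]
  obtain ⟨d, a, hd, ha⟩ := exists_int_smul x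
  have hd' : (0 : ℚ) < d := by exact_mod_cast hd
  refine ⟨a, ?_, fun i => ?_, fun h => ?_, fun i hi => ?_⟩
  · funext j
    have : ((f a j : ℤ) : ℚ) = 0 := by
      rw [apply_eq_sum f a j]; push_cast; simp only [ha, x, Finset.mul_sum]
      rw [Finset.sum_comm]
      refine Finset.sum_eq_zero fun b _ => ?_
      calc ∑ i, (f (Pi.single i 1) j : ℚ) * ((d : ℚ) * (t b * c b i))
          = (d : ℚ) * t b * ∑ i, (f (Pi.single i 1) j : ℚ) * c b i := by
            rw [Finset.mul_sum]; exact Finset.sum_congr rfl fun i _ => by ring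
        _ = 0 := by rw [h2, mul_zero]
    exact_mod_cast this
  · have : (0 : ℚ) ≤ a i := by
      rw [ha]; refine mul_nonneg hd'.le ?_
      by_cases hi : w i = 0
      · rw [hx0 i hi]
      · exact (hx i hi).le
    exact_mod_cast this
  · obtain ⟨i, hi⟩ := Function.ne_iff.1 hne
    have h4 := ha i
    rw [h, Pi.zero_apply, Int.cast_zero] at h4
    exact (mul_pos hd' (hx i hi)).ne' h4.symm
  · have : (a i : ℚ) = 0 := by rw [ha, hx0 i hi, mul_zero]
    exact_mod_cast this

/-- A nonnegative real solution of an integral linear system is a positive combination of linearly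
independent nonnegative integral solutions. -/
theorem exists_cone (f : (ι → ℤ) →ₗ[ℤ] (κ → ℤ)) (w : ι → ℝ) (hw : rmap f w = 0)
    (h0 : ∀ i, 0 ≤ w i) :
    ∃ (l : ℕ) (g : (Fin l → ℤ) →ₗ[ℤ] (ι → ℤ)) (u : Fin l → ℝ), Function.Injective g ∧
      (∀ v, (∀ i, 0 ≤ v i) → ∀ i, 0 ≤ g v i) ∧ f.comp g = 0 ∧ (∀ i, 0 < u i) ∧ rmap g u = w ∧
      ∀ v i, w i = 0 → g v i = 0 := by
  classical
  obtain ⟨N, hN⟩ : ∃ N, (Finset.univ.filter fun i => w i ≠ 0).card = N := ⟨_, rfl⟩
  induction N using Nat.strong_induction_on generalizing w with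
  | _ N IH =>
  by_cases hne : w = 0
  · exact ⟨0, 0, 0, Function.injective_of_subsingleton _, fun v _ i => le_rfl, LinearMap.comp_zero f,
      fun i => i.elim0, by rw [hne]; funext i; simp [rmap_apply], fun v i _ => rfl⟩
  obtain ⟨a, ha, ha0, hane, has⟩ := exists_int_ker f w hw h0 hne
  have hpne : (Finset.univ.filter fun i => 0 < a i).Nonempty := by
    obtain ⟨i, hi⟩ := Function.ne_iff.1 hane
    exact ⟨i, by simpa using lt_of_le_of_ne (ha0 i) (Ne.symm hi)⟩
  obtain ⟨i₀, hi₀, hmin⟩ := Finset.exists_min_image _ (fun i => w i / (a i : ℝ)) hpne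
  have hi₀' : (0 : ℝ) < a i₀ := by simpa using hi₀
  let t := w i₀ / (a i₀ : ℝ)
  have hw0 : w i₀ ≠ 0 := fun h => by simpa [has i₀ h] using hi₀
  have ht : 0 < t := div_pos (lt_of_le_of_ne (h0 i₀) (Ne.symm hw0)) hi₀'
  let w' : ι → ℝ := w - t • fun i => (a i : ℝ)
  have hw' : rmap f w' = 0 := by
    simp only [w', map_sub, map_smul, hw, rmap_intCast, ha]
    funext j; simp
  have h0' : ∀ i, 0 ≤ w' i := fun i => by
    simp only [w', Pi.sub_apply, Pi.smul_apply, smul_eq_mul]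
    rcases (ha0 i).eq_or_lt with h | h
    · simp [← h, h0 i]
    · have := hmin i (by simpa using h)
      rw [le_div_iff₀ (by exact_mod_cast h)] at this
      linarith
  have hz : ∀ i, w i = 0 → w' i = 0 := fun i hi => by simp [w', hi, has i hi]
  have hi0z : w' i₀ = 0 := by
    simp only [w', t, Pi.sub_apply, Pi.smul_apply, smul_eq_mul]; field_simp; ring
  have hlt : (Finset.univ.filter fun i => w' i ≠ 0).card < N := by
    rw [← hN]
    refine Finset.card_lt_card ⟨fun i hi => ?_, fun h => ?_⟩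
    · simp only [Finset.mem_filter, Finset.mem_univ, true_and] at hi ⊢
      exact fun h => hi (hz i h)
    · have := h (x := i₀) (by simpa using hw0)
      simp [hi0z] at this
  obtain ⟨l, g, u, hg, hg0, hfg, hu, hgu, hgs⟩ := IH _ hlt w' hw' h0' rfl
  let G : (Fin (l + 1) → ℤ) →ₗ[ℤ] (ι → ℤ) :=
    (LinearMap.proj (0 : Fin (l + 1))).smulRight a + g.comp (LinearMap.funLeft ℤ ℤ Fin.succ)
  have hG : ∀ v, G v = v 0 • a + g (v ∘ Fin.succ) := fun v => rfl
  refine ⟨l + 1, G, Fin.cons t u, ?_, fun v hv i => ?_, ?_, fun i => ?_, ?_, fun v i hi => ?_⟩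
  · refine (injective_iff_map_eq_zero _).2 fun v hv => ?_
    rw [hG] at hv
    have h1 := congrFun hv i₀
    simp only [Pi.add_apply, Pi.smul_apply, Pi.zero_apply, hgs _ i₀ hi0z, add_zero, smul_eq_mul,
      mul_eq_zero] at h1
    have h2 : v 0 = 0 := h1.resolve_right (by exact_mod_cast hi₀'.ne')
    rw [h2, zero_smul, zero_add] at hv
    have h3 := (injective_iff_map_eq_zero g).1 hg _ hv
    funext i
    refine Fin.cases h2 (fun j => ?_) i
    exact congrFun h3 j
  · rw [hG]; exact add_nonneg (mul_nonneg (hv 0) (ha0 i)) (hg0 _ (fun j => hv _) i)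
  · refine LinearMap.ext fun v => ?_
    rw [LinearMap.comp_apply, hG, map_add, map_smul, ha, smul_zero, zero_add]
    exact LinearMap.congr_fun hfg _
  · exact Fin.cases ht hu i
  · funext i
    have e1 : w i = t * (a i : ℝ) + w' i := by simp [w']
    have e2 : G (Pi.single 0 1) = a := by
      rw [hG, show ((Pi.single 0 1 : Fin (l + 1) → ℤ) ∘ Fin.succ) = 0 by
        funext j; simp [Fin.succ_ne_zero], map_zero, add_zero, Pi.single_eq_same, one_smul]
    have e3 : ∀ j : Fin l, G (Pi.single j.succ 1) = g (Pi.single j 1) := fun j => by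
      rw [hG, show ((Pi.single j.succ 1 : Fin (l + 1) → ℤ) ∘ Fin.succ) = Pi.single j 1 by
        funext i; simp [Pi.single_apply], Pi.single_eq_of_ne (Fin.succ_ne_zero j).symm, zero_smul, zero_add]
    rw [rmap_apply, Fin.sum_univ_succ, e1, ← hgu, rmap_apply]
    simp [e2, e3, mul_comm]
  · rw [hG]
    simp [has i hi, hgs _ i (hz i hi)]

end

/-- Common refinement of two rational simplicial cones through a point of both. -/
theorem exists_refine {k m : ℕ} {κ : Type*} (φ : (Fin k → ℤ) →ₗ[ℤ] (κ → ℤ)) (ψ : (Fin m → ℤ) →ₗ[ℤ] (κ → ℤ))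
    (hφ : Function.Injective φ) (hψ : Function.Injective ψ) (y : Fin k → ℝ) (z : Fin m → ℝ)
    (hy : ∀ i, 0 ≤ y i) (hz : ∀ i, 0 ≤ z i) (hne : y ≠ 0) (h : rmap φ y = rmap ψ z) :
    ∃ (l : ℕ) (_ : 0 < l) (α : (Fin l → ℤ) →ₗ[ℤ] (Fin k → ℤ)) (β : (Fin l → ℤ) →ₗ[ℤ] (Fin m → ℤ))
      (u : Fin l → ℝ), Function.Injective α ∧ Function.Injective β ∧
      (∀ v, (∀ i, 0 ≤ v i) → ∀ i, 0 ≤ α v i) ∧ (∀ v, (∀ i, 0 ≤ v i) → ∀ i, 0 ≤ β v i) ∧
      φ.comp α = ψ.comp β ∧ (∀ i, 0 < u i) ∧ rmap α u = y ∧ rmap β u = z := by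
  let f : (Fin k ⊕ Fin m → ℤ) →ₗ[ℤ] (κ → ℤ) :=
    φ.comp (LinearMap.funLeft ℤ ℤ Sum.inl) - ψ.comp (LinearMap.funLeft ℤ ℤ Sum.inr)
  have e1 : ∀ i, f (Pi.single (Sum.inl i) 1) = φ (Pi.single i 1) := fun i => by
    show φ _ - ψ _ = _
    rw [show LinearMap.funLeft ℤ ℤ Sum.inl (Pi.single (Sum.inl i : Fin k ⊕ Fin m) (1 : ℤ)) = Pi.single i 1 by
        funext j; simp [LinearMap.funLeft_apply, Pi.single_apply],
      show LinearMap.funLeft ℤ ℤ Sum.inr (Pi.single (Sum.inl i : Fin k ⊕ Fin m) (1 : ℤ)) = 0 by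
        funext j; simp [LinearMap.funLeft_apply, Pi.single_apply], map_zero, sub_zero]
  have e2 : ∀ i, f (Pi.single (Sum.inr i) 1) = -ψ (Pi.single i 1) := fun i => by
    show φ _ - ψ _ = _
    rw [show LinearMap.funLeft ℤ ℤ Sum.inl (Pi.single (Sum.inr i : Fin k ⊕ Fin m) (1 : ℤ)) = 0 by
        funext j; simp [LinearMap.funLeft_apply, Pi.single_apply],
      show LinearMap.funLeft ℤ ℤ Sum.inr (Pi.single (Sum.inr i : Fin k ⊕ Fin m) (1 : ℤ)) = Pi.single i 1 by
        funext j; simp [LinearMap.funLeft_apply, Pi.single_apply], map_zero, zero_sub]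
  have hw : rmap f (Sum.elim y z) = 0 := by
    funext j
    rw [rmap_apply, Fintype.sum_sum_type]
    have := congrFun h j
    simp only [rmap_apply] at this
    simp [e1, e2, this]
  obtain ⟨l, g, u, hg, hg0, hfg, hu, hgu, -⟩ :=
    exists_cone f (Sum.elim y z) hw (fun i => by cases i <;> simp [hy, hz])
  have hcomm : ∀ v, φ (fun i => g v (Sum.inl i)) = ψ (fun i => g v (Sum.inr i)) := fun v =>
    sub_eq_zero.1 (LinearMap.congr_fun hfg v)
  let α := (LinearMap.funLeft ℤ ℤ (Sum.inl : Fin k → Fin k ⊕ Fin m)).comp g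
  let β := (LinearMap.funLeft ℤ ℤ (Sum.inr : Fin m → Fin k ⊕ Fin m)).comp g
  refine ⟨l, ?_, α, β, u, ?_, ?_, fun v hv i => hg0 v hv _, fun v hv i => hg0 v hv _,
    LinearMap.ext hcomm, hu, funext fun i => congrFun hgu (Sum.inl i),
    funext fun i => congrFun hgu (Sum.inr i)⟩
  · rcases Nat.eq_zero_or_pos l with rfl | hl
    · refine absurd (funext fun i => ?_) hne
      have := congrFun hgu (Sum.inl i)
      simpa [rmap_apply] using this.symm
    · exact hl
  · refine (injective_iff_map_eq_zero _).2 fun v hv => (injective_iff_map_eq_zero g).1 hg v ?_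
    have h1 := hcomm v
    rw [show (fun i => g v (Sum.inl i)) = (0 : Fin k → ℤ) from hv, map_zero] at h1
    have h2 := (injective_iff_map_eq_zero ψ).1 hψ _ h1.symm
    funext i; cases i with
    | inl i => exact congrFun hv i
    | inr i => exact congrFun h2 i
  · refine (injective_iff_map_eq_zero _).2 fun v hv => (injective_iff_map_eq_zero g).1 hg v ?_
    have h1 := hcomm v
    rw [show (fun i => g v (Sum.inr i)) = (0 : Fin m → ℤ) from hv, map_zero] at h1
    have h2 := (injective_iff_map_eq_zero φ).1 hφ _ h1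
    funext i; cases i with
    | inl i => exact congrFun h2 i
    | inr i => exact congrFun hv i

end Groth.Agent.FanLib
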