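import Groth.Agent.FanLib.Closed
import Groth.Prelude.Def_W4c6instabfans3FanCvx
import Mathlib.LinearAlgebra.Finsupp.Pi
import Mathlib.Analysis.Convex.StdSimplex
import Mathlib.Analysis.Normed.Module.RCLike.Real

/-! The fan of a family of rational polyhedral cones and its map to the space of rays. -/

set_option autoImplicit false

universe u

namespace Groth.Agent.FanLib

open CategoryTheory Opposite Instab Instab.Fan Topology

variable {N : ℕ}

/-- Carathéodory for integral generators. -/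
theorem exists_indep_comb (s : Finset (Fin N → ℤ)) (c : (Fin N → ℤ) → ℝ) (hc : ∀ g, 0 ≤ c g)
    (x : Fin N → ℝ) (hx : x = ∑ g ∈ s, c g • fun j => (g j : ℝ)) :
    ∃ t ⊆ s, Function.Injective (Fintype.linearCombination ℤ (fun g : t => (g : Fin N → ℤ))) ∧
      ∃ c' : (Fin N → ℤ) → ℝ, (∀ g, 0 ≤ c' g) ∧ x = ∑ g ∈ t, c' g • fun j => (g j : ℝ) := by
  classical
  induction s using Finset.strongInduction generalizing c with
  | _ s IH =>
  by_cases hinj : Function.Injective (Fintype.linearCombination ℤ (fun g : s => (g : Fin N → ℤ)))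
  · exact ⟨s, Finset.Subset.refl _, hinj, c, hc, hx⟩
  rw [injective_iff_map_eq_zero] at hinj
  push Not at hinj
  obtain ⟨a, ha, hane⟩ := hinj
  obtain ⟨a, ha, g₀, hg₀⟩ : ∃ a : s → ℤ, Fintype.linearCombination ℤ (fun g : s => (g : Fin N → ℤ)) a = 0 ∧
      ∃ g, 0 < a g := by
    obtain ⟨g, hg⟩ := Function.ne_iff.1 hane
    rcases lt_or_gt_of_ne hg with h | h
    · exact ⟨-a, by rw [map_neg, ha, neg_zero], g, neg_pos.2 h⟩
    · exact ⟨a, ha, g, h⟩
  let b : (Fin N → ℤ) → ℤ := fun g => if h : g ∈ s then a ⟨g, h⟩ else 0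
  have hb : ∀ g : s, b g = a g := fun g => dif_pos g.2
  have hb0 : ∀ j, ∑ g ∈ s, (b g : ℝ) * (g j : ℝ) = 0 := fun j => by
    have h1 := congrFun ha j
    simp only [Fintype.linearCombination_apply, Finset.sum_apply, Pi.smul_apply, smul_eq_mul, Pi.zero_apply] at h1
    rw [← Finset.sum_coe_sort]
    simp only [hb]
    exact_mod_cast h1
  have hpne : (s.filter fun g => 0 < b g).Nonempty :=
    ⟨g₀.1, Finset.mem_filter.2 ⟨g₀.2, by rw [hb]; exact hg₀⟩⟩
  obtain ⟨g₁, hg₁, hmin⟩ := Finset.exists_min_image _ (fun g => c g / (b g : ℝ)) hpne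
  obtain ⟨hg₁s, hg₁b⟩ := Finset.mem_filter.1 hg₁
  let t := c g₁ / (b g₁ : ℝ)
  have ht : 0 ≤ t := div_nonneg (hc _) (Int.cast_nonneg hg₁b.le)
  let c' : (Fin N → ℤ) → ℝ := fun g => if g ∈ s then c g - t * (b g : ℝ) else 0
  have hc' : ∀ g, 0 ≤ c' g := fun g => by
    simp only [c']
    split_ifs with hg
    · rcases le_or_gt (b g) 0 with h | h
      · nlinarith [mul_nonpos_of_nonneg_of_nonpos ht (show (b g : ℝ) ≤ 0 by exact_mod_cast h), hc g]
      · have := hmin g (Finset.mem_filter.2 ⟨hg, h⟩)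
        rw [le_div_iff₀ (by exact_mod_cast h)] at this
        linarith
    · exact le_rfl
  have h1 : c' g₁ = 0 := by
    have : (b g₁ : ℝ) ≠ 0 := by exact_mod_cast hg₁b.ne'
    simp only [c', if_pos hg₁s, t]; field_simp; ring
  have h2 : x = ∑ g ∈ s.erase g₁, c' g • fun j => (g j : ℝ) := by
    rw [Finset.sum_erase _ (by rw [h1, zero_smul]), hx]
    funext j
    simp only [Finset.sum_apply, Pi.smul_apply, smul_eq_mul]
    rw [show ∑ g ∈ s, c' g * (g j : ℝ) = ∑ g ∈ s, (c g * (g j : ℝ) - t * ((b g : ℝ) * (g j : ℝ))) from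
      Finset.sum_congr rfl fun g hg => by simp only [c', if_pos hg]; ring]
    rw [Finset.sum_sub_distrib, ← Finset.mul_sum, hb0, mul_zero, sub_zero]
  obtain ⟨u, hu, hinj', hex⟩ := IH _ (Finset.erase_ssubset hg₁s) c' hc' h2
  exact ⟨u, hu.trans (Finset.erase_subset _ _), hinj', hex⟩

variable {ι : Type} (K : ι → Set (Fin N → ℝ))

theorem toVec_eq {n : ICone} (φ : RFan.Cone K n) (v : Fin n.dim → ℝ) :
    RFan.toVec K n φ v = rmap φ.1 v := rfl

theorem toVec_ne {n : ICone} (φ : RFan.Cone K n) (v : Orth n) : RFan.toVec K n φ v.1 ≠ 0 :=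
  fun h => v.2.2 (rmap_injective φ.2.1 (h.trans (rmap φ.1).map_zero.symm))

/-- The canonical map to the space of rays. -/
noncomputable def toRays : P (RFan K) → Rays N :=
  Quot.lift (fun p => Quot.mk _ ⟨RFan.toVec K p.1.1 p.1.2 p.2.1, toVec_ne K p.1.2 p.2⟩) (by
    rintro _ _ ⟨φ, ξ, v, w, c, hc, h⟩
    refine Quot.sound ⟨c, hc, ?_⟩
    show rmap (ξ : RFan.Cone K _).1 w.1 = c • rmap ((ξ : RFan.Cone K _).1.comp φ.toLin) v.1
    rw [rmap_comp, ← map_smul, h]; rfl)

theorem toRays_mk {n : ICone} (φ : RFan.Cone K n) (v : Orth n) :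
    toRays K (P.mk (F := RFan K) φ v) = Quot.mk _ ⟨RFan.toVec K n φ v.1, toVec_ne K φ v⟩ := rfl

theorem rays_eq {a b : {v : Fin N → ℝ // v ≠ 0}}
    (h : (Quot.mk _ a : Rays N) = Quot.mk _ b) : ∃ c : ℝ, 0 < c ∧ b.1 = c • a.1 := by
  have h1 := Quot.eqvGen_exact h
  clear h
  induction h1 with
  | rel p q h => exact h
  | refl p => exact ⟨1, one_pos, (one_smul ℝ _).symm⟩
  | symm p q _ ih =>
    obtain ⟨c, hc, h⟩ := ih
    exact ⟨c⁻¹, inv_pos.2 hc, by rw [h, smul_smul, inv_mul_cancel₀ hc.ne', one_smul]⟩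
  | trans p q r _ _ ih ih' =>
    obtain ⟨c, hc, h⟩ := ih
    obtain ⟨d, hd, h'⟩ := ih'
    exact ⟨d * c, mul_pos hd hc, by rw [h', h, smul_smul]⟩

theorem toRays_injective : Function.Injective (toRays K) := by
  intro x x' h
  obtain ⟨k, φ, v, rfl⟩ := exists_rep x
  obtain ⟨m, φ', v', rfl⟩ := exists_rep x'
  rw [toRays_mk, toRays_mk] at h
  obtain ⟨c, hc, h⟩ := rays_eq h
  have h' : rmap (φ : RFan.Cone K k).1 (scale c hc v).1 = rmap (φ' : RFan.Cone K m).1 v'.1 := by
    rw [scale_val, map_smul]; exact h.symm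
  obtain ⟨l, hl, α, β, u, hα, hβ, hα0, hβ0, hcomp, hu, h1, h2⟩ :=
    exists_refine (φ : RFan.Cone K k).1 (φ' : RFan.Cone K m).1 φ.2.1 φ'.2.1 _ _ (scale c hc v).2.1 v'.2.1
      (scale c hc v).2.2 h'
  let L : ICone := ⟨⟨l, hl⟩⟩
  let a : L ⟶ k := ⟨α, hα, hα0⟩
  let b : L ⟶ m := ⟨β, hβ, hβ0⟩
  let w : Orth L := ⟨u, fun i => (hu i).le, fun h => (hu ⟨0, hl⟩).ne' (congrFun h ⟨0, hl⟩)⟩
  have e : (RFan K).map a.op φ = (RFan K).map b.op φ' := Subtype.ext hcomp
  rw [← mk_scale φ c hc v, show scale c hc v = push a w from Subtype.ext h1.symm,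
    show v' = push b w from Subtype.ext h2.symm, ← mk_map, ← mk_map, e]

theorem continuous_toRays : Continuous (toRays K) :=
  continuous_quot_lift _ (continuous_sigma fun e => continuous_quot_mk.comp
    (((continuous_rmap (e.2 : RFan.Cone K e.1).1).comp continuous_val).subtype_mk
      fun v => toVec_ne K e.2 v))

theorem isCompact_cell {F : Fan.{u}} {n : ICone} (ξ : F.obj (op n)) : IsCompact (P.cell ξ) := by
  let f : stdSimplex ℝ (Fin n.dim) → Orth n := fun w =>
    ⟨w.1, w.2.1, fun h => by simpa [h] using w.2.2⟩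
  have hf : Continuous f := isInducing_val.continuous_iff.2 continuous_subtype_val
  haveI : CompactSpace (stdSimplex ℝ (Fin n.dim)) := isCompact_iff_compactSpace.1 (isCompact_stdSimplex ℝ _)
  convert isCompact_range ((continuous_mk ξ).comp hf) using 1
  ext x
  constructor
  · rintro ⟨v, rfl⟩
    obtain ⟨i, hi⟩ := Function.ne_iff.1 v.2.2
    have hpos : 0 < ∑ i, v.1 i := Finset.sum_pos' (fun i _ => v.2.1 i)
      ⟨i, Finset.mem_univ i, lt_of_le_of_ne (v.2.1 i) (Ne.symm hi)⟩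
    exact ⟨⟨(∑ i, v.1 i)⁻¹ • v.1, fun i => mul_nonneg (inv_pos.2 hpos).le (v.2.1 i), by
      show ∑ j, (∑ i, v.1 i)⁻¹ * v.1 j = 1
      rw [← Finset.mul_sum, inv_mul_cancel₀ hpos.ne']⟩, (mk_eq_of_smul ξ (inv_pos.2 hpos) rfl).symm⟩
  · rintro ⟨w, rfl⟩; exact ⟨_, rfl⟩

instance : T2Space (Rays N) := by
  let nf : {v : Fin N → ℝ // v ≠ 0} → (Fin N → ℝ) := fun v => ‖v.1‖⁻¹ • v.1
  have hnf : ∀ v w : {v : Fin N → ℝ // v ≠ 0}, (∃ c : ℝ, 0 < c ∧ w.1 = c • v.1) → nf v = nf w := by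
    rintro v w ⟨c, hc, h⟩
    simp only [nf, h, norm_smul, Real.norm_of_nonneg hc.le, smul_smul, mul_inv]
    congr 1
    field_simp
  refine T2Space.of_injective_continuous (f := Quot.lift nf hnf) ?_ ?_
  · intro a b
    induction a using Quot.ind with
    | mk v =>
    induction b using Quot.ind with
    | mk w =>
    intro h
    have hv : 0 < ‖v.1‖ := norm_pos_iff.2 v.2
    have hw : 0 < ‖w.1‖ := norm_pos_iff.2 w.2
    refine Quot.sound ⟨‖w.1‖ * ‖v.1‖⁻¹, mul_pos hw (inv_pos.2 hv), ?_⟩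
    have h' : ‖v.1‖⁻¹ • v.1 = ‖w.1‖⁻¹ • w.1 := h
    rw [← smul_smul, h', smul_smul, mul_inv_cancel₀ hw.ne', one_smul]
  · exact continuous_quot_lift _ ((continuous_subtype_val.norm.inv₀ fun v => norm_ne_zero_iff.2 v.2).smul
      continuous_subtype_val)

theorem isEmbedding_toRays [Finite ι]
    (hK : ∀ a, ∃ (m : ℕ) (gen : Fin m → Finset (Fin N → ℤ)),
      K a = Set.iUnion fun l => {x | ∃ c : (Fin N → ℤ) → ℝ, (∀ g, 0 ≤ c g) ∧
        x = Finset.sum (gen l) fun g => c g • fun j => (g j : ℝ)}) :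
    IsEmbedding (toRays K) ∧
      Set.range (toRays K) = {r | ∃ w : {w : Fin N → ℝ // w ≠ 0}, r = Quot.mk _ w ∧ w.1 ∈ Set.iUnion K} := by
  classical
  choose m gen hgen using hK
  cases nonempty_fintype ι
  let J := {p : (a : ι) × (l : Fin (m a)) × {t : Finset (Fin N → ℤ) // t ∈ (gen a l).powerset} //
    0 < p.2.2.1.card ∧ Function.Injective (Fintype.linearCombination ℤ (fun g : p.2.2.1 => (g : Fin N → ℤ)))}
  let dim : J → ICone := fun p => ⟨⟨p.1.2.2.1.card, p.2.1⟩⟩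
  let E : ∀ p : J, Fin (dim p).dim ≃ p.1.2.2.1 := fun p => p.1.2.2.1.equivFin.symm
  let φ : ∀ p : J, RFan.Cone K (dim p) := fun p =>
    ⟨(Fintype.linearCombination ℤ (fun g : p.1.2.2.1 => (g : Fin N → ℤ))).comp
        (LinearMap.funLeft ℤ ℤ (E p).symm),
      p.2.2.comp (LinearMap.funLeft_injective_of_surjective ℤ ℤ _ (E p).symm.surjective), p.1.1, fun v hv => by
        rw [hgen]
        refine Set.mem_iUnion.2 ⟨p.1.2.1,
          fun g => if h : g ∈ p.1.2.2.1 then (v ((E p).symm ⟨g, h⟩) : ℝ) else 0, fun g => ?_, ?_⟩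
        · dsimp only
          split_ifs
          · exact Int.cast_nonneg (hv _)
          · exact le_rfl
        · rw [← Finset.sum_subset (Finset.mem_powerset.1 p.1.2.2.2) (fun g _ hg => by simp only [dif_neg hg, zero_smul]),
            ← Finset.sum_coe_sort]
          funext j
          simp [Fintype.linearCombination_apply, Finset.sum_apply, LinearMap.funLeft_apply]⟩
  have hφ : ∀ (p : J) (c : (Fin N → ℤ) → ℝ),
      rmap (φ p).1 (fun i => c (E p i)) = ∑ g ∈ p.1.2.2.1, c g • fun j => (g j : ℝ) := fun p c => by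
    funext j
    rw [rmap_apply, Finset.sum_apply, ← Finset.sum_coe_sort p.1.2.2.1, ← (E p).sum_comp]
    refine Finset.sum_congr rfl fun i _ => ?_
    rw [Pi.smul_apply, smul_eq_mul, mul_comm]
    congr 2
    show (Fintype.linearCombination ℤ (fun g : p.1.2.2.1 => (g : Fin N → ℤ)))
      ((Pi.single i 1 : Fin (dim p).dim → ℤ) ∘ (E p).symm) j = _
    rw [show ((Pi.single i 1 : Fin (dim p).dim → ℤ) ∘ (E p).symm) = Pi.single (E p i) 1 by
      funext g; simp [Pi.single_apply, Equiv.symm_apply_eq], Fintype.linearCombination_apply_single, one_smul]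
  have hcov : ∀ x : Fin N → ℝ, x ≠ 0 → x ∈ Set.iUnion K →
      ∃ (p : J) (u : Orth (dim p)), x = rmap (φ p).1 u.1 := by
    intro x hx hxK
    obtain ⟨a, ha⟩ := Set.mem_iUnion.1 hxK
    rw [hgen] at ha
    obtain ⟨l, c, hc, hxc⟩ := Set.mem_iUnion.1 ha
    obtain ⟨t, ht, hinj, c', hc', hxc'⟩ := exists_indep_comb (gen a l) c hc x hxc
    have htne : 0 < t.card := Finset.card_pos.2 (by
      rw [Finset.nonempty_iff_ne_empty]; rintro rfl; exact hx (by simpa using hxc'))
    let p : J := ⟨⟨a, l, t, Finset.mem_powerset.2 ht⟩, htne, hinj⟩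
    refine ⟨p, ⟨fun i => c' (E p i), fun i => hc' _, fun h => hx ?_⟩, ?_⟩
    · rw [hxc', ← hφ p c', h, map_zero]
    · exact hxc'.trans (hφ p c').symm
  have hcone : ∀ a, ∀ c : ℝ, 0 < c → ∀ x ∈ K a, c • x ∈ K a := by
    intro a c hc x hx
    rw [hgen] at hx ⊢
    obtain ⟨l, e, he, rfl⟩ := Set.mem_iUnion.1 hx
    exact Set.mem_iUnion.2 ⟨l, fun g => c * e g, fun g => mul_nonneg hc.le (he g), by
      simp [Finset.smul_sum, smul_smul]⟩
  have hlin : ∀ (p : J) (u : Orth (dim p)), rmap (φ p).1 u.1 ∈ K p.1.1 := fun p u => by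
    rw [hgen]
    refine Set.mem_iUnion.2 ⟨p.1.2.1, fun g => if h : g ∈ p.1.2.2.1 then u.1 ((E p).symm ⟨g, h⟩) else 0,
      fun g => ?_, ?_⟩
    · dsimp only
      split_ifs
      · exact u.2.1 _
      · exact le_rfl
    · rw [← Finset.sum_subset (Finset.mem_powerset.1 p.1.2.2.2) (fun g _ hg => by simp only [dif_neg hg, zero_smul]),
        ← hφ]
      congr 1
      funext i
      simp
  have hclosed : IsClosed ({0} ∪ Set.iUnion K) := by
    have : ({0} ∪ Set.iUnion K : Set (Fin N → ℝ)) =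
        {0} ∪ ⋃ p : J, rmap (φ p).1 '' {u | ∀ i, 0 ≤ u i} := by
      ext x
      constructor
      · rintro (h | h)
        · exact Or.inl h
        · by_cases hx : x = 0
          · exact Or.inl hx
          · obtain ⟨p, u, rfl⟩ := hcov x hx h
            exact Or.inr (Set.mem_iUnion.2 ⟨p, u.1, u.2.1, rfl⟩)
      · rintro (h | h)
        · exact Or.inl h
        · obtain ⟨p, u, hu, rfl⟩ := Set.mem_iUnion.1 h
          by_cases hu0 : u = 0
          · exact Or.inl (by simp [hu0])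
          · exact Or.inr (Set.mem_iUnion.2 ⟨_, hlin p ⟨u, hu, hu0⟩⟩)
    rw [this]
    exact isClosed_singleton.union (isClosed_iUnion_of_finite fun p =>
      (LinearMap.isClosedEmbedding_of_injective (LinearMap.ker_eq_bot.2 (rmap_injective (φ p).2.1))).isClosedMap _
        (isClosed_Ici (a := (0 : Fin (dim p).dim → ℝ))))
  have hmem : ∀ (n : ICone) (ψ : RFan.Cone K n) (v : Orth n), RFan.toVec K n ψ v.1 ∈ Set.iUnion K := by
    intro n ψ v
    have := mem_of_intOrth (C := {v : Orth n | rmap ψ.1 v.1 ∈ ({0} : Set _) ∪ Set.iUnion K})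
      (hclosed.preimage ((continuous_rmap ψ.1).comp continuous_val))
      (fun w hw c hc => by
        rcases hw with hw | hw
        · left; rw [Set.mem_singleton_iff] at hw ⊢; rw [scale_val, map_smul, hw, smul_zero]
        · right
          obtain ⟨a, ha⟩ := Set.mem_iUnion.1 hw
          rw [scale_val, map_smul]
          exact Set.mem_iUnion.2 ⟨a, hcone a c hc _ ha⟩)
      (fun z h0 h1 => by
        obtain ⟨a, ha⟩ := ψ.2.2
        right
        refine Set.mem_iUnion.2 ⟨a, ?_⟩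
        show rmap ψ.1 (fun i => (z i : ℝ)) ∈ K a
        rw [rmap_intCast]
        exact ha z h0) v
    exact this.resolve_left (toVec_ne K ψ v)
  have hcover : ∀ x : P (RFan K), ∃ p, x ∈ P.cell (F := RFan K) (φ p) := fun x => by
    obtain ⟨n, ψ, v, rfl⟩ := exists_rep x
    obtain ⟨p, u, hu⟩ := hcov _ (toVec_ne K ψ v) (hmem n ψ v)
    refine ⟨p, u, toRays_injective K ?_⟩
    rw [toRays_mk, toRays_mk]
    exact congrArg (Quot.mk _) (Subtype.ext hu.symm)
  haveI : CompactSpace (P (RFan K)) := ⟨by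
    rw [show (Set.univ : Set (P (RFan K))) = ⋃ p, P.cell (F := RFan K) (φ p) from
      (Set.eq_univ_of_forall fun x => Set.mem_iUnion.2 (hcover x)).symm]
    exact isCompact_iUnion fun p => isCompact_cell _⟩
  refine ⟨((continuous_toRays K).isClosedEmbedding (toRays_injective K)).isEmbedding, Set.ext fun r => ⟨?_, ?_⟩⟩
  · rintro ⟨x, rfl⟩
    obtain ⟨n, ψ, v, rfl⟩ := exists_rep x
    exact ⟨_, toRays_mk K ψ v, hmem n ψ v⟩
  · rintro ⟨w, rfl, hw⟩
    obtain ⟨p, u, hu⟩ := hcov w.1 w.2 hw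
    exact ⟨P.mk (F := RFan K) (φ p) u, congrArg (Quot.mk _) (Subtype.ext hu.symm)⟩

end Groth.Agent.FanLib
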